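import Cfsg.Agent.Lib.SemisimpleCount.Basic
import Cfsg.Agent.Lib.SemisimpleClasses
import Cfsg.Agent.Lib.UnitaryConj.Similar
import Cfsg.Agent.Lib.SemisimpleIso.UnitaryDet
import Cfsg.Prelude.Def_Classical

/-! Semisimple classes of the special unitary group. -/

set_option autoImplicit false

namespace CfsgLib.SemisimpleCount

open Polynomial Matrix

variable {F : Type*} [Field F] [Fintype F] {n q : ℕ}

/-- Inverse conjugate transpose. -/
def twist (σ : F →+* F) : GL (Fin n) F →* GL (Fin n) F where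
  toFun g := ⟨((g⁻¹).1.map σ)ᵀ, (g.1.map σ)ᵀ,
    by rw [← transpose_mul, ← Matrix.map_mul, Units.mul_inv, Matrix.map_one _ (map_zero σ) (map_one σ), transpose_one],
    by rw [← transpose_mul, ← Matrix.map_mul, Units.inv_mul, Matrix.map_one _ (map_zero σ) (map_one σ), transpose_one]⟩
  map_one' := Units.ext (by simp [Matrix.map_one])
  map_mul' g h := Units.ext (by simp [_root_.mul_inv_rev, Matrix.map_mul, transpose_mul])

theorem card_su (hF : Fintype.card F = q ^ 2) (p : ℕ) [Fact p.Prime] [CharP F p] (m : ℕ) :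
    Nat.card {c : ConjClasses ↥(Cfsg.SU (m + 1) F q) //
      ∃ g : ↥(Cfsg.SU (m + 1) F q), ConjClasses.mk g = c ∧ (orderOf g).Coprime p} = q ^ m := by
  classical
  obtain ⟨hq, σ, hσ⟩ := UnitaryBasic.frob_exists hF
  have hσ2 : ∀ x, σ (σ x) = x := fun x => by rw [hσ, hσ, ← pow_mul, ← sq, ← hF, FiniteField.pow_card]
  have hne : ∃ a, σ a ≠ a := by
    obtain ⟨ζ, hζ⟩ := UnitaryBasic.exists_zeta hF
    refine ⟨ζ, fun he => ?_⟩
    rw [hσ] at he
    have h1 : ζ ^ (q - 1) = 1 := Units.ext (by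
      have h2 : (ζ : F) ^ (q - 1) * ζ = 1 * ζ := by rw [← pow_succ, Nat.sub_add_cancel (by omega), he, one_mul]
      simpa using mul_right_cancel₀ ζ.ne_zero h2)
    have h3 := Nat.le_of_dvd (by omega) (hζ ▸ orderOf_dvd_of_pow_eq_one h1)
    omega
  set ε : F := (-1) ^ (m + 1) with hεdef
  have hε : ε * ε = 1 := by rw [hεdef, ← mul_pow, neg_one_mul, neg_neg, one_pow]
  have hσε : σ ε = ε := by rw [hεdef, map_pow, map_neg, map_one]
  have hform : ∀ u v : Fin (m + 1) → F, Cfsg.hermForm (m + 1) F q u v = u ⬝ᵥ (σ ∘ v) := fun u v => by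
    simp [Cfsg.hermForm, dotProduct, hσ]
  have hgu : ∀ g : ↥(Cfsg.SU (m + 1) F q), (g.1.1.map σ)ᵀ * g.1.1 = 1 := by
    intro g
    have key : ∀ u v, u ⬝ᵥ ((g.1.1ᵀ * g.1.1.map σ) *ᵥ (σ ∘ v)) = u ⬝ᵥ (σ ∘ v) := fun u v => by
      have hsv : σ ∘ (g.1.1 *ᵥ v) = g.1.1.map σ *ᵥ (σ ∘ v) := funext fun i => RingHom.map_mulVec σ _ _ i
      rw [← hform u v, ← g.2 u v, hform]
      show _ = (g.1.1 *ᵥ u) ⬝ᵥ (σ ∘ (g.1.1 *ᵥ v))
      rw [hsv, ← mulVec_mulVec, dotProduct_mulVec u, vecMul_transpose]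
    have h1 : g.1.1ᵀ * g.1.1.map σ = 1 := Matrix.ext fun i j => by
      have := key (Pi.single i 1) (Pi.single j 1)
      have e : σ ∘ (Pi.single j 1 : Fin (m + 1) → F) = Pi.single j 1 :=
        funext fun k => by by_cases hk : k = j <;> simp [hk]
      rw [e, single_dotProduct, single_dotProduct, one_mul, one_mul, Matrix.mulVec_single_one, col_apply] at this
      rw [this, Matrix.one_apply, Pi.single_apply]
    have h2 := congrArg Matrix.transpose h1
    simpa [transpose_mul] using h2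
  let C := {c : ConjClasses ↥(Cfsg.SU (m + 1) F q) //
      ∃ g : ↥(Cfsg.SU (m + 1) F q), ConjClasses.mk g = c ∧ (orderOf g).Coprime p}
  let T := {P : F[X] // (P.Monic ∧ P.natDegree = m + 1) ∧ P.coeff 0 = ε ∧
      ∀ k, k ≤ m + 1 → σ (P.coeff k) = ε * P.coeff (m + 1 - k)}
  have hcoeff : ∀ M : Matrix (Fin (m + 1)) (Fin (m + 1)) F, M.det = 1 → M.charpoly.coeff 0 = ε := by
    intro M hM
    rw [Matrix.det_eq_sign_charpoly_coeff, Fintype.card_fin] at hM
    calc M.charpoly.coeff 0 = (ε * ε) * M.charpoly.coeff 0 := by rw [hε, one_mul]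
      _ = _ := by rw [mul_assoc, hM, mul_one]
  have hsym : ∀ g : ↥(Cfsg.SU (m + 1) F q), ∀ k, k ≤ m + 1 →
      σ (g.1.1.charpoly.coeff k) = ε * g.1.1.charpoly.coeff (m + 1 - k) := by
    intro g k hk
    have hu : IsUnit g.1.1 := (Matrix.isUnit_iff_isUnit_det _).mpr (by rw [g.1.2]; exact isUnit_one)
    have hinv : g.1.1⁻¹ = (g.1.1.map σ)ᵀ := Matrix.inv_eq_left_inv (hgu g)
    have h := charpoly_inv_coeff g.1.1 hu (k := k) (by rw [Fintype.card_fin]; exact hk)
    rw [hinv, charpoly_transpose_map, coeff_map, g.1.2, inv_one, mul_one, Fintype.card_fin] at h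
    exact h
  have hinvc : ∀ a b : ↥(Cfsg.SU (m + 1) F q), IsConj a b → a.1.1.charpoly = b.1.1.charpoly := by
    intro a b hab
    obtain ⟨c, rfl⟩ := isConj_iff.mp hab
    show _ = (c.1.1 * a.1.1 * (c.1⁻¹).1).charpoly
    rw [Matrix.charpoly_mul_comm, ← mul_assoc, Matrix.SpecialLinearGroup.coe_inv, Matrix.adjugate_mul, c.1.2,
      one_smul, one_mul]
  let Φ : C → T := fun c => ⟨(Classical.choose c.2).1.1.charpoly,
    ⟨Matrix.charpoly_monic _, by rw [Matrix.charpoly_natDegree_eq_dim, Fintype.card_fin]⟩,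
    hcoeff _ (Classical.choose c.2).1.2, hsym _⟩
  have hΦ : Function.Bijective Φ := by
    constructor
    · intro a b h
      obtain ⟨ha1, ha2⟩ := Classical.choose_spec a.2
      obtain ⟨hb1, hb2⟩ := Classical.choose_spec b.2
      apply Subtype.ext
      rw [← ha1, ← hb1, ConjClasses.mk_eq_mk_iff_isConj]
      exact SemisimpleUnitary.su_isConj hF ha2 hb2 (congrArg Subtype.val h)
    · rintro ⟨P, ⟨hm, hd⟩, h0, hk⟩
      have hne0 : P.coeff 0 ≠ 0 := by rw [h0]; exact pow_ne_zero _ (neg_ne_zero.mpr one_ne_zero)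
      obtain ⟨M, hM, ho⟩ := SemisimpleClasses.exists_GL (p := p) P hm hd hne0
      have hdet : M.1.det = 1 := by
        rw [Matrix.det_eq_sign_charpoly_coeff, hM, h0, Fintype.card_fin]; exact hε
      set B := twist σ M with hB
      have hoB : (orderOf B).Coprime p := Nat.Coprime.coprime_dvd_left (orderOf_map_dvd (twist σ) M) ho
      have hBc : B.1.charpoly = P := by
        show (((M⁻¹).1.map σ)ᵀ).charpoly = P
        rw [charpoly_transpose_map, Matrix.coe_units_inv]
        refine Polynomial.ext fun k => ?_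
        rcases le_or_gt k (m + 1) with hle | hgt
        · rw [coeff_map, charpoly_inv_coeff _ M.isUnit (by rw [Fintype.card_fin]; exact hle), hdet, inv_one,
            mul_one, hM, Fintype.card_fin, map_mul, ← hεdef, hσε, hk _ (by omega), ← mul_assoc, hε, one_mul]
          congr 1
          omega
        · rw [coeff_eq_zero_of_natDegree_lt (p := P) (by omega), coeff_eq_zero_of_natDegree_lt]
          refine lt_of_le_of_lt natDegree_map_le ?_
          rw [Matrix.charpoly_natDegree_eq_dim, Fintype.card_fin]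
          exact hgt
      obtain ⟨Q, hQ⟩ := SemisimpleClasses.exists_conj (SemisimpleClasses.isSemisimple_of_coprime M ho)
        (SemisimpleClasses.isSemisimple_of_coprime B hoB) (hM.trans hBc.symm)
      obtain ⟨B', hB'⟩ := (UnitaryConj.similar_iff hF M).mpr ⟨Q, by
        have e : (((M : Matrix (Fin (m + 1)) (Fin (m + 1)) F).map (fun x : F => x ^ q)).transpose)⁻¹ = B.1 := by
          rw [show (fun x : F => x ^ q) = ⇑σ from funext fun x => (hσ x).symm]
          exact Matrix.inv_eq_left_inv B.val_inv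
        rw [e]
        exact hQ⟩
      obtain ⟨c, hc⟩ := isConj_iff.mp hB'
      have hc1 : B'.1.1.charpoly = P := by
        rw [← hc, ← hM]
        simp only [Units.val_mul, Matrix.coe_units_inv]
        exact Matrix.charpoly_units_conj c M.1
      have hdet' : B'.1.1.det = 1 := by
        rw [Matrix.det_eq_sign_charpoly_coeff, hc1, h0, Fintype.card_fin]; exact hε
      let g : ↥(Cfsg.SU (m + 1) F q) := ⟨⟨B'.1.1, hdet'⟩, fun u v => B'.2 u v⟩
      have hgo : (orderOf g).Coprime p := by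
        have e1 : orderOf g = orderOf B'.1 := by
          rw [← orderOf_injective (Matrix.SpecialLinearGroup.toGL.comp (Cfsg.SU (m + 1) F q).subtype)
            (Matrix.SpecialLinearGroup.toGL_injective.comp Subtype.val_injective) g]
          exact congrArg orderOf (Units.ext rfl)
        rw [e1, ← hc, show c * M * c⁻¹ = MulAut.conj c M from rfl, MulEquiv.orderOf_eq]
        exact ho
      refine ⟨⟨ConjClasses.mk g, g, rfl, hgo⟩, Subtype.ext ?_⟩
      have := Classical.choose_spec (⟨g, rfl, hgo⟩ : ∃ g' : ↥(Cfsg.SU (m + 1) F q),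
        ConjClasses.mk g' = ConjClasses.mk g ∧ (orderOf g').Coprime p)
      exact (hinvc _ _ (ConjClasses.mk_eq_mk_iff_isConj.mp this.1)).trans hc1
  show Nat.card C = _
  rw [Nat.card_congr (Equiv.ofBijective Φ hΦ)]
  exact card_herm hF σ hσ2 hne hε hσε

end CfsgLib.SemisimpleCount
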