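import Cfsg.Agent.Lib.SemisimpleCount.Basic
import Cfsg.Agent.Lib.SemisimpleIso.Groups

/-! Semisimple classes of the symplectic group. -/

set_option autoImplicit false

namespace CfsgLib.SemisimpleCount

open Polynomial Matrix

variable {F : Type*} [Field F]

/-- A symmetric invertible matrix symmetrising the companion matrix. -/
theorem exists_sym (n : ℕ) (h : F[X]) (hm : h.Monic) (hd : h.natDegree = n) :
    ∃ E D : Matrix (Fin n) (Fin n) F, IsUnit E.det ∧ Eᵀ = E ∧ (E * D)ᵀ = E * D ∧ D.charpoly = h := by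
  classical
  subst hd
  let b : Module.Basis (Fin h.natDegree) F (AdjoinRoot h) := (AdjoinRoot.powerBasis' hm).basis
  let φ : AdjoinRoot h →ₗ[F] F := (lcoeff F (h.natDegree - 1)).comp (AdjoinRoot.modByMonicHom hm)
  let E : Matrix (Fin h.natDegree) (Fin h.natDegree) F := Matrix.of fun i j => φ (b i * b j)
  let D : Matrix (Fin h.natDegree) (Fin h.natDegree) F := Algebra.leftMulMatrix b (AdjoinRoot.root h)
  refine ⟨E, D, ?_, ?_, ?_, ?_⟩
  · rw [isUnit_iff_ne_zero]
    intro h0
    obtain ⟨c, hc, hEc⟩ := Matrix.exists_mulVec_eq_zero_iff.mpr h0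
    set a := b.equivFun.symm c with hadef
    have ha : a ≠ 0 := fun e => hc (by
      have := congrArg b.equivFun e
      rwa [hadef, LinearEquiv.apply_symm_apply, map_zero] at this)
    have hz : ∀ i, φ (b i * a) = 0 := fun i => by
      have := congrFun hEc i
      simp only [Matrix.mulVec, dotProduct, E, Matrix.of_apply, Pi.zero_apply] at this
      rw [hadef, Module.Basis.equivFun_symm_apply, Finset.mul_sum, map_sum]
      simp only [mul_smul_comm, map_smul, smul_eq_mul]
      simpa [mul_comm] using this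
    set A := AdjoinRoot.modByMonicHom hm a with hAdef
    have hAa : AdjoinRoot.mk h A = a := AdjoinRoot.mk_leftInverse hm a
    have hA : A ≠ 0 := fun e => ha (by rw [← hAa, e, map_zero])
    have hAd : A.natDegree < h.natDegree := by
      have h1 : A = A %ₘ h := by conv_lhs => rw [hAdef, ← hAa, AdjoinRoot.modByMonicHom_mk]
      refine natDegree_lt_natDegree hA ?_
      rw [h1]
      exact degree_modByMonic_lt _ hm
    have hi : h.natDegree - 1 - A.natDegree < h.natDegree := by omega
    have := hz ⟨_, hi⟩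
    have hb : b ⟨_, hi⟩ = AdjoinRoot.mk h (X ^ (h.natDegree - 1 - A.natDegree)) := by
      refine ((AdjoinRoot.powerBasis' hm).basis_eq_pow _).trans ?_
      rw [map_pow, AdjoinRoot.mk_X, AdjoinRoot.powerBasis'_gen]
    rw [hb, ← hAa, ← map_mul] at this
    change (AdjoinRoot.modByMonicHom hm (AdjoinRoot.mk h _)).coeff (h.natDegree - 1) = 0 at this
    rw [AdjoinRoot.modByMonicHom_mk, (modByMonic_eq_self_iff hm).mpr, coeff_X_pow_mul', if_pos (by omega),
      show h.natDegree - 1 - (h.natDegree - 1 - A.natDegree) = A.natDegree by omega] at this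
    · exact leadingCoeff_ne_zero.mpr hA this
    · refine degree_lt_degree ?_
      rw [natDegree_mul (pow_ne_zero _ X_ne_zero) hA, natDegree_X_pow]
      omega
  · ext i j
    simp [E, mul_comm (b i)]
  · have hED : ∀ i j, (E * D) i j = φ (AdjoinRoot.root h * b i * b j) := fun i j => by
      have e := b.sum_repr (AdjoinRoot.root h * b j)
      rw [show AdjoinRoot.root h * b i * b j = b i * (AdjoinRoot.root h * b j) by ring]
      conv_rhs => rw [← e, Finset.mul_sum, map_sum]
      simp only [Matrix.mul_apply, E, D, Matrix.of_apply, Algebra.leftMulMatrix_eq_repr_mul, mul_smul_comm,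
        map_smul, smul_eq_mul]
      exact Finset.sum_congr rfl fun k _ => mul_comm _ _
    ext i j
    rw [Matrix.transpose_apply, hED, hED, mul_right_comm]
  · show (Algebra.leftMulMatrix (AdjoinRoot.powerBasis' hm).basis (AdjoinRoot.powerBasis' hm).gen).charpoly = h
    rw [charpoly_leftMulMatrix, AdjoinRoot.powerBasis'_gen, AdjoinRoot.minpoly_root hm.ne_zero, hm.leadingCoeff,
      inv_one, C_1, mul_one]

/-- The symplectic cross-section. -/
theorem exists_symp (n : ℕ) (h : F[X]) (hm : h.Monic) (hd : h.natDegree = n) :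
    ∃ g : Matrix.symplecticGroup (Fin n) F, ∀ (K : Type _) [Field K] (φ : F →+* K) (z : K), z ≠ 0 →
      (g.1.charpoly.map φ).eval z = z ^ n * (h.map φ).eval (z + z⁻¹) := by
  classical
  obtain ⟨E, D, hE, hEt, hED, hD⟩ := exists_sym n h hm hd
  have hEi : (E⁻¹)ᵀ = E⁻¹ := by rw [Matrix.transpose_nonsing_inv, hEt]
  have hEED : E * D = Dᵀ * E := by rw [← hED, transpose_mul, hEt, ← hEt, hEt]
  refine ⟨⟨fromBlocks 0 (-E) E⁻¹ D, SymplecticGroup.mem_iff'.mpr ?_⟩, ?_⟩
  · rw [Matrix.J, fromBlocks_transpose, fromBlocks_multiply, fromBlocks_multiply, hEi, transpose_neg, hEt,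
      transpose_zero]
    simp [Matrix.mul_nonsing_inv _ hE, Matrix.nonsing_inv_mul _ hE, hEED]
  · intro K _ φ z hz
    rw [← Matrix.charpoly_map, Matrix.eval_charpoly, ← hD, ← Matrix.charpoly_map, Matrix.eval_charpoly]
    haveI : Invertible (z • (1 : Matrix (Fin n) (Fin n) K)) :=
      ⟨z⁻¹ • 1, by simp [smul_smul, mul_inv_cancel₀ hz, inv_mul_cancel₀ hz], by simp [smul_smul, mul_inv_cancel₀ hz, inv_mul_cancel₀ hz]⟩
    have e : Matrix.scalar (Fin n ⊕ Fin n) z - (fromBlocks 0 (-E) E⁻¹ D).map φ =
        fromBlocks (z • 1) (E.map φ) (-(E⁻¹).map φ) (z • 1 - D.map φ) := by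
      ext (i | i) (j | j) <;> simp [Matrix.one_apply, Matrix.scalar_apply, Matrix.diagonal_apply]
    rw [e, Matrix.det_fromBlocks₁₁]
    have hinv : ⅟ (z • (1 : Matrix (Fin n) (Fin n) K)) = z⁻¹ • 1 :=
      invOf_eq_right_inv (by simp [smul_smul, mul_inv_cancel₀ hz, inv_mul_cancel₀ hz])
    rw [hinv, det_smul, det_one, mul_one, Fintype.card_fin]
    congr 2
    simp only [Matrix.mul_smul, Matrix.mul_one, Matrix.smul_mul, Matrix.neg_mul, ← Matrix.map_mul,
      Matrix.nonsing_inv_mul _ hE, Matrix.map_one _ (map_zero φ) (map_one φ)]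
    ext i j
    simp only [Matrix.sub_apply, Matrix.smul_apply, Matrix.neg_apply, Matrix.scalar_apply, Matrix.diagonal_apply,
      Matrix.one_apply, Matrix.map_apply, smul_eq_mul]
    split_ifs <;> ring

theorem charpoly_sym {n : ℕ} (g : Matrix.symplecticGroup (Fin n) F) {k : ℕ} (hk : k ≤ n + n) :
    g.1.charpoly.coeff k = g.1.charpoly.coeff (n + n - k) := by
  classical
  have hdet : g.1.det = 1 := SymplecticGroup.det_eq_one g.2
  have hu : IsUnit g.1 := (Matrix.isUnit_iff_isUnit_det _).mpr (by rw [hdet]; exact isUnit_one)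
  have hJ := Matrix.isUnit_det_J (Fin n) F
  let U : (Matrix (Fin n ⊕ Fin n) (Fin n ⊕ Fin n) F)ˣ := Matrix.nonsingInvUnit (Matrix.J (Fin n) F) hJ
  have hinv : g.1⁻¹ = (U⁻¹).1 * g.1ᵀ * U.1 := by
    refine Matrix.inv_eq_left_inv ?_
    show (Matrix.J (Fin n) F)⁻¹ * g.1ᵀ * Matrix.J (Fin n) F * g.1 = 1
    rw [Matrix.mul_assoc, Matrix.mul_assoc, ← Matrix.mul_assoc g.1ᵀ, SymplecticGroup.mem_iff'.1 g.2,
      Matrix.nonsing_inv_mul _ hJ]
  have h := charpoly_inv_coeff g.1 hu (k := k) (by simpa using hk)
  rw [hinv] at h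
  simp only [Matrix.coe_units_inv] at h
  rw [Matrix.charpoly_units_conj', Matrix.charpoly_transpose, hdet] at h
  simpa using h

theorem card_sp [Fintype F] {q : ℕ} (hq : Fintype.card F = q) (p : ℕ) [Fact p.Prime] [CharP F p] (n : ℕ) :
    Nat.card {c : ConjClasses ↥(Matrix.symplecticGroup (Fin n) F) //
      ∃ g : ↥(Matrix.symplecticGroup (Fin n) F), ConjClasses.mk g = c ∧ (orderOf g).Coprime p} = q ^ n := by
  classical
  let CC := {c : ConjClasses ↥(Matrix.symplecticGroup (Fin n) F) //
      ∃ g : ↥(Matrix.symplecticGroup (Fin n) F), ConjClasses.mk g = c ∧ (orderOf g).Coprime p}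
  have hinvc : ∀ a b : ↥(Matrix.symplecticGroup (Fin n) F), IsConj a b → a.1.charpoly = b.1.charpoly := by
    intro a b hab
    obtain ⟨c, hc⟩ := hab
    have h' : c.1.1 * a.1 = b.1 * c.1.1 := congrArg Subtype.val hc
    have hu : IsUnit c.1.1.det := by rw [SymplecticGroup.det_eq_one c.1.2]; exact isUnit_one
    have hb : b.1 = c.1.1 * a.1 * c.1.1⁻¹ := by rw [h', Matrix.mul_nonsing_inv_cancel_right _ _ hu]
    rw [hb, Matrix.charpoly_mul_comm, ← Matrix.mul_assoc, Matrix.nonsing_inv_mul _ hu, Matrix.one_mul]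
  refine le_antisymm ?_ ?_
  · show Nat.card CC ≤ _
    let Φ : CC → (Fin n → F) := fun c i => (Classical.choose c.2).1.charpoly.coeff (n + i)
    have hΦ : Function.Injective Φ := by
      intro a b h
      obtain ⟨ha1, ha2⟩ := Classical.choose_spec a.2
      obtain ⟨hb1, hb2⟩ := Classical.choose_spec b.2
      apply Subtype.ext
      rw [← ha1, ← hb1, ConjClasses.mk_eq_mk_iff_isConj]
      refine SemisimpleIso.symp_isConj_of_charpoly ha2 hb2 ?_
      have hdeg : ∀ g : ↥(Matrix.symplecticGroup (Fin n) F), g.1.charpoly.natDegree = n + n := fun g => by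
        rw [Matrix.charpoly_natDegree_eq_dim, Fintype.card_sum, Fintype.card_fin]
      have htop : ∀ g : ↥(Matrix.symplecticGroup (Fin n) F), g.1.charpoly.coeff (n + n) = 1 := fun g => by
        have := (Matrix.charpoly_monic g.1).coeff_natDegree
        rwa [hdeg] at this
      have hhigh : ∀ k, n ≤ k → k ≤ n + n →
          (Classical.choose a.2).1.charpoly.coeff k = (Classical.choose b.2).1.charpoly.coeff k := by
        intro k h1 h2
        rcases eq_or_lt_of_le h2 with rfl | h3
        · rw [htop, htop]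
        · have := congrFun h ⟨k - n, by omega⟩
          simp only [Φ] at this
          rwa [show n + (k - n) = k by omega] at this
      refine Polynomial.ext fun k => ?_
      rcases le_or_gt k (n + n) with hk | hk
      · rcases le_or_gt n k with h1 | h1
        · exact hhigh k h1 hk
        · rw [charpoly_sym _ hk, charpoly_sym _ hk]
          exact hhigh _ (by omega) (by omega)
      · rw [coeff_eq_zero_of_natDegree_lt (by rw [hdeg]; exact hk),
          coeff_eq_zero_of_natDegree_lt (by rw [hdeg]; exact hk)]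
    have := Nat.card_le_card_of_injective Φ hΦ
    rwa [Nat.card_fun, Nat.card_eq_fintype_card (α := F), Nat.card_fin, hq] at this
  · show _ ≤ Nat.card CC
    let S := {h : F[X] // h.Monic ∧ h.natDegree = n}
    have hS : Nat.card S = q ^ n := by
      rw [Nat.card_congr ((monicEquivDegreeLT n).trans (degreeLTEquiv F n).toEquiv), Nat.card_fun,
        Nat.card_eq_fintype_card (α := F), Nat.card_fin, hq]
    choose g hg using fun h : S => exists_symp n h.1 h.2.1 h.2.2
    have hpow : ∀ h : S, ∃ N, (orderOf ((g h) ^ (q ^ N))).Coprime p := fun h => by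
      haveI : Finite ↥(Matrix.symplecticGroup (Fin n) F) := Subtype.finite
      refine exists_coprime_pow Fact.out ?_ (g h) (orderOf_pos _)
      obtain ⟨k, -, hk⟩ := FiniteField.card F p
      rw [← hq, hk]
      exact dvd_pow_self _ k.ne_zero
    choose N hN using hpow
    let Ψ : S → CC := fun h => ⟨ConjClasses.mk ((g h) ^ (q ^ N h)), _, rfl, hN h⟩
    have hΨ : Function.Injective Ψ := by
      intro h h' e
      have hc := hinvc _ _ (ConjClasses.mk_eq_mk_iff_isConj.mp (congrArg Subtype.val e))
      rw [SubmonoidClass.coe_pow, SubmonoidClass.coe_pow, ← hq, charpoly_pow_card_pow, charpoly_pow_card_pow] at hc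
      let K := AlgebraicClosure F
      let φ : F →+* K := algebraMap F K
      have key : ∀ y : K, (h.1.map φ).eval y = (h'.1.map φ).eval y := by
        intro y
        obtain ⟨z, hz⟩ := IsAlgClosed.exists_root (X ^ 2 - C y * X + 1 : K[X]) (by
          have : (X ^ 2 - C y * X + 1 : K[X]).degree = 2 := by compute_degree!
          rw [this]
          decide)
        simp only [IsRoot.def, eval_add, eval_sub, eval_pow, eval_X, eval_mul, eval_C, eval_one] at hz
        have hz0 : z ≠ 0 := by rintro rfl; simp at hz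
        have hy : z + z⁻¹ = y := by
          rw [inv_eq_of_mul_eq_one_right (show z * (y - z) = 1 by linear_combination -hz)]
          ring
        have e1 := hg h K φ z hz0
        have e2 := hg h' K φ z hz0
        rw [hc, e2, hy] at e1
        exact (mul_left_cancel₀ (pow_ne_zero _ hz0) e1).symm
      exact Subtype.ext (Polynomial.map_injective φ φ.injective (Polynomial.funext key))
    haveI : Finite CC := Subtype.finite
    have := Nat.card_le_card_of_injective Ψ hΨ
    rwa [hS] at this

end CfsgLib.SemisimpleCount
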