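import Mathlib

/-!
Power of an element with order prime to `p` and the same characteristic polynomial; coefficients of the
characteristic polynomial of an inverse; polynomials fixed by semilinear reversal.
-/

set_option autoImplicit false

namespace CfsgLib.SemisimpleCount

open Polynomial Matrix

variable {K : Type*} [Field K] {ι : Type*} [Fintype ι] [DecidableEq ι]

theorem charpoly_pow_card_pow [Fintype K] (M : Matrix ι ι K) (N : ℕ) :
    (M ^ (Fintype.card K ^ N)).charpoly = M.charpoly := by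
  induction N with
  | zero => rw [pow_zero, pow_one]
  | succ N ih => rw [pow_succ, pow_mul, FiniteField.Matrix.charpoly_pow_card, ih]

theorem exists_coprime_pow {G : Type*} [Monoid G] [Finite G] {p q : ℕ} (hp : p.Prime) (hpq : p ∣ q) (g : G)
    (ho : 0 < orderOf g) :
    ∃ N : ℕ, (orderOf (g ^ (q ^ N))).Coprime p := by
  refine ⟨orderOf g, ?_⟩
  have h1 : (g ^ (q ^ orderOf g)) ^ (ordCompl[p] (orderOf g)) = 1 := by
    rw [← pow_mul, ← orderOf_dvd_iff_pow_eq_one]
    conv_lhs => rw [← Nat.ordProj_mul_ordCompl_eq_self (orderOf g) p]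
    refine Nat.mul_dvd_mul_right ((pow_dvd_pow p ?_).trans (pow_dvd_pow_of_dvd hpq _)) _
    exact (Nat.factorization_lt p ho.ne').le
  exact Nat.Coprime.coprime_dvd_left (orderOf_dvd_of_pow_eq_one h1) (Nat.coprime_ordCompl hp ho.ne').symm

theorem charpoly_inv_coeff (M : Matrix ι ι K) (hM : IsUnit M) {k : ℕ} (hk : k ≤ Fintype.card ι) :
    (M⁻¹).charpoly.coeff k =
      (-1) ^ Fintype.card ι * (M.det)⁻¹ * M.charpoly.coeff (Fintype.card ι - k) := by
  rw [Matrix.charpoly_inv M hM, Ring.inverse_eq_inv']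
  rw [show ((-1 : K[X]) ^ Fintype.card ι) = C ((-1 : K) ^ Fintype.card ι) by simp]
  rw [← map_mul, coeff_C_mul, ← Matrix.reverse_charpoly, coeff_reverse, Matrix.charpoly_natDegree_eq_dim,
    revAt_le hk]

theorem charpoly_transpose_map {L : Type*} [Field L] (M : Matrix ι ι K) (σ : K →+* L) :
    ((M.map σ)ᵀ).charpoly = M.charpoly.map σ := by
  rw [Matrix.charpoly_transpose, Matrix.charpoly_map]

variable {m : ℕ}

/-- Monic polynomials of degree `m + 1` as coefficient vectors. -/
noncomputable def coeffEquiv (m : ℕ) : {P : K[X] // P.Monic ∧ P.natDegree = m + 1} ≃ (Fin (m + 1) → K) :=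
  (monicEquivDegreeLT (m + 1)).trans (degreeLTEquiv K (m + 1)).toEquiv

theorem coeffEquiv_apply (P : {P : K[X] // P.Monic ∧ P.natDegree = m + 1}) (i : Fin (m + 1)) :
    coeffEquiv m P i = P.1.coeff i := by
  obtain ⟨P, hm, hd⟩ := P
  show (P.eraseLead).coeff i = P.coeff i
  rw [eraseLead_coeff_of_ne]
  have := i.2
  omega

/-- The number of monic polynomials of degree `m + 1` with fixed constant term `ε` and coefficients symmetric under
an involutory automorphism with fixed field of cardinality `q`. -/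
theorem card_herm [Fintype K] {q : ℕ} (hq : Fintype.card K = q ^ 2) (σ : K →+* K) (hσ : ∀ x, σ (σ x) = x)
    (hne : ∃ a, σ a ≠ a) {ε : K} (hε : ε * ε = 1) (hσε : σ ε = ε) :
    Nat.card {P : K[X] // (P.Monic ∧ P.natDegree = m + 1) ∧ P.coeff 0 = ε ∧
      ∀ k, k ≤ m + 1 → σ (P.coeff k) = ε * P.coeff (m + 1 - k)} = q ^ m := by
  classical
  let τ : (Fin m → K) → (Fin m → K) := fun v i => ε * σ (v i.rev)
  let W := {v : Fin m → K // τ v = v}
  have ττ : ∀ v, τ (τ v) = v := fun v => funext fun i => by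
    show ε * σ (ε * σ (v i.rev.rev)) = v i
    rw [map_mul, hσ, hσε, ← mul_assoc, hε, one_mul, Fin.rev_rev]
  have hW : Nat.card W = q ^ m := by
    obtain ⟨θ, hθ⟩ := hne
    have hd : θ - σ θ ≠ 0 := sub_ne_zero.mpr (Ne.symm hθ)
    have τ_lin : ∀ (a b : Fin m → K) (c : K), τ (a + c • b) = τ a + σ c • τ b := fun a b c =>
      funext fun i => by simp [τ]; ring
    let f : W × W → (Fin m → K) := fun x => x.1.1 + θ • x.2.1
    have hinj : Function.Injective f := by
      rintro ⟨a, b⟩ ⟨a', b'⟩ he
      have h1 : a.1 + θ • b.1 = a'.1 + θ • b'.1 := he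
      have h2 := congrArg τ h1
      rw [τ_lin, τ_lin, a.2, b.2, a'.2, b'.2] at h2
      have hb : b.1 = b'.1 := funext fun i => by
        have e1 := congrFun h1 i
        have e2 := congrFun h2 i
        simp only [Pi.add_apply, Pi.smul_apply, smul_eq_mul] at e1 e2
        apply mul_left_cancel₀ hd
        linear_combination e1 - e2
      have ha : a.1 = a'.1 := by rw [hb] at h1; exact add_right_cancel h1
      rw [Prod.mk.injEq]
      exact ⟨Subtype.ext ha, Subtype.ext hb⟩
    have hsurj : Function.Surjective f := by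
      intro x
      let b : Fin m → K := (θ - σ θ)⁻¹ • (x - τ x)
      have hb : τ b = b := funext fun i => by
        show ε * σ ((θ - σ θ)⁻¹ * (x i.rev - ε * σ (x i.rev.rev))) = (θ - σ θ)⁻¹ * (x i - ε * σ (x i.rev))
        rw [map_mul, map_sub, map_mul, map_inv₀, map_sub, hσ, hσ, hσε, Fin.rev_rev,
          show σ θ - θ = -(θ - σ θ) by ring, inv_neg]
        linear_combination (θ - σ θ)⁻¹ * x i * hε
      let a : Fin m → K := x + (-θ) • b
      have ha : τ a = a := by
        rw [show τ a = τ x + σ (-θ) • τ b from τ_lin x b (-θ), hb]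
        funext i
        simp only [a, b, Pi.add_apply, Pi.smul_apply, Pi.sub_apply, smul_eq_mul, map_neg]
        field_simp
        ring
      exact ⟨(⟨a, ha⟩, ⟨b, hb⟩), by simp [f, a]⟩
    have h := Nat.card_congr (Equiv.ofBijective f ⟨hinj, hsurj⟩)
    rw [Nat.card_prod, Nat.card_fun, Nat.card_eq_fintype_card (α := K), Nat.card_fin, hq, ← pow_mul,
      mul_comm 2 m, pow_mul, ← sq] at h
    exact Nat.pow_left_injective two_ne_zero h
  rw [← hW]
  refine Nat.card_congr
    { toFun := fun P => ⟨fun i => P.1.coeff (i.1 + 1), funext fun i => by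
        show ε * σ (P.1.coeff (i.rev.1 + 1)) = P.1.coeff (i.1 + 1)
        have hi := i.2
        rw [P.2.2.2 _ (by rw [Fin.val_rev]; omega), ← mul_assoc, hε, one_mul, Fin.val_rev]
        congr 1
        omega⟩
      invFun := fun v => ⟨((coeffEquiv m).symm (Fin.cons ε v.1)).1, ((coeffEquiv m).symm (Fin.cons ε v.1)).2,
        ?_, ?_⟩
      left_inv := ?_
      right_inv := ?_ }
  · have h := coeffEquiv_apply ((coeffEquiv m).symm (Fin.cons ε v.1)) 0
    rw [Equiv.apply_symm_apply, Fin.cons_zero, Fin.val_zero] at h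
    exact h.symm
  · set P := (coeffEquiv m).symm (Fin.cons ε v.1) with hP
    have hc : ∀ i : Fin (m + 1), P.1.coeff i = (Fin.cons ε v.1 : Fin (m + 1) → K) i := fun i => by
      rw [← coeffEquiv_apply, hP, Equiv.apply_symm_apply]
    have h0 : P.1.coeff 0 = ε := by simpa using hc 0
    have htop : P.1.coeff (m + 1) = 1 := by
      have h := P.2.1.coeff_natDegree
      rwa [P.2.2] at h
    intro k hk
    rcases Nat.eq_zero_or_pos k with rfl | hk0
    · rw [h0, Nat.sub_zero, htop, hσε, mul_one]
    rcases eq_or_lt_of_le hk with rfl | hkm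
    · rw [htop, Nat.sub_self, h0, map_one, hε]
    · obtain ⟨j, rfl⟩ : ∃ j, k = j + 1 := ⟨k - 1, by omega⟩
      have hj : j < m := by omega
      have e1 := hc (Fin.succ ⟨j, hj⟩)
      have e2 := hc (Fin.succ (Fin.rev ⟨j, hj⟩))
      rw [Fin.cons_succ, Fin.val_succ] at e1 e2
      rw [Fin.val_rev] at e2
      rw [show m + 1 - (j + 1) = m - (j + 1) + 1 by omega, e1, e2]
      conv_rhs => rw [← v.2]
      show _ = ε * (ε * σ (v.1 (Fin.rev (Fin.rev ⟨j, hj⟩))))
      rw [Fin.rev_rev, ← mul_assoc, hε, one_mul]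
  · intro P
    apply Subtype.ext
    have : (coeffEquiv m).symm (Fin.cons ε fun i => P.1.coeff (i.1 + 1)) = ⟨P.1, P.2.1⟩ := by
      rw [Equiv.symm_apply_eq]
      funext i
      rw [coeffEquiv_apply]
      refine Fin.cases ?_ (fun j => ?_) i
      · simp [P.2.2.1]
      · simp
    exact (congrArg Subtype.val this :)
  · intro v
    apply Subtype.ext
    funext i
    show ((coeffEquiv m).symm (Fin.cons ε v.1)).1.coeff (i.1 + 1) = v.1 i
    rw [← Fin.val_succ, ← coeffEquiv_apply, Equiv.apply_symm_apply, Fin.cons_succ]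

end CfsgLib.SemisimpleCount
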